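import Groth.Agent.Lib.FlatGen5.Ring
import Groth.Agent.Lib.Flatness.Criterion
import Mathlib.RingTheory.AdicCompletion.Basic
import Mathlib.RingTheory.Localization.AtPrime.Basic

/-! # The flattening ideal over a complete Noetherian local ring -/

set_option autoImplicit false
universe u v

open TensorProduct IsLocalRing

namespace GrothLib.Flattening

/-- Base change of the tensor product along `A → B → C`. -/
theorem flat_cancel {A B C : Type u} [CommRing A] [CommRing B] [CommRing C] [Algebra A B] [Algebra A C]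
    [Algebra B C] [IsScalarTower A B C] (N : Type u) [AddCommGroup N] [Module A N] :
    Module.Flat C (C ⊗[B] (B ⊗[A] N)) ↔ Module.Flat C (C ⊗[A] N) :=
  ⟨fun _ => Module.Flat.of_linearEquiv (AlgebraTensorModule.cancelBaseChange A B C C N).symm,
    fun _ => Module.Flat.of_linearEquiv (AlgebraTensorModule.cancelBaseChange A B C C N)⟩

/-- The universal flattening ideal of a family of modules over the `n`-th infinitesimal neighbourhood
of the closed point of a local ring. -/
theorem exists_infinitesimal {R : Type u} [CommRing R] [IsLocalRing R] {ι : Type v} (N : ι → Type u)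
    [∀ i, AddCommGroup (N i)] [∀ i, Module R (N i)] (n : ℕ) :
    ∃ I : Ideal R, maximalIdeal R ^ (n + 1) ≤ I ∧ I ≤ maximalIdeal R ∧
      ∀ (R' : Type u) [CommRing R'] [Algebra R R'], (maximalIdeal R ^ (n + 1)).map (algebraMap R R') = ⊥ →
        ((∀ i, Module.Flat R' (R' ⊗[R] N i)) ↔ I.map (algebraMap R R') = ⊥) := by
  let Q : Ideal R := maximalIdeal R ^ (n + 1)
  let P : Ideal (R ⧸ Q) := (maximalIdeal R).map (Ideal.Quotient.mk Q)
  have hQ : Q ≤ maximalIdeal R := Ideal.pow_le_self n.succ_ne_zero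
  have hPn : IsNilpotent P := ⟨n + 1, by
    rw [← Ideal.map_pow, Ideal.map_quotient_self]; rfl⟩
  haveI hPmax : P.IsMaximal := by
    rcases Ideal.map_eq_top_or_isMaximal_of_surjective (Ideal.Quotient.mk Q) Ideal.Quotient.mk_surjective
      (maximalIdeal.isMaximal R) with h | h
    · exfalso
      have := congrArg (Ideal.comap (Ideal.Quotient.mk Q)) h
      rw [Ideal.comap_map_of_surjective _ Ideal.Quotient.mk_surjective, Ideal.comap_top,
        ← RingHom.ker_eq_comap_bot, Ideal.mk_ker, sup_eq_left.2 hQ] at this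
      exact (maximalIdeal.isMaximal R).ne_top this
    · exact h
  letI := Ideal.Quotient.field P
  choose J hJP hJ using fun i => FlatGen5.exists_flatteningIdeal P hPn ((R ⧸ Q) ⊗[R] N i)
  refine ⟨(⨆ i, J i).comap (Ideal.Quotient.mk Q), fun x hx => ?_, fun x hx => ?_, fun R' _ _ h0 => ?_⟩
  · rw [Ideal.mem_comap, Ideal.Quotient.eq_zero_iff_mem.2 hx]
    exact zero_mem _
  · have hx' : Ideal.Quotient.mk Q x ∈ P := (iSup_le hJP) hx
    rw [← Ideal.mem_comap, Ideal.comap_map_of_surjective _ Ideal.Quotient.mk_surjective,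
      ← RingHom.ker_eq_comap_bot, Ideal.mk_ker, sup_eq_left.2 hQ] at hx'
    exact hx'
  · rw [Ideal.map_eq_bot_iff_le_ker] at h0
    letI : Algebra (R ⧸ Q) R' := (Ideal.Quotient.lift Q (algebraMap R R') h0).toAlgebra
    haveI : IsScalarTower R (R ⧸ Q) R' := IsScalarTower.of_algebraMap_eq fun _ => rfl
    rw [IsScalarTower.algebraMap_eq R (R ⧸ Q) R', ← Ideal.map_map,
      show algebraMap R (R ⧸ Q) = Ideal.Quotient.mk Q from rfl,
      Ideal.map_comap_of_surjective _ Ideal.Quotient.mk_surjective, Ideal.map_iSup, iSup_eq_bot]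
    exact forall_congr' fun i => (flat_cancel (N i)).symm.trans (hJ i R')

/-- A family of modules over a complete Noetherian local ring has a smallest flattening ideal, and it
is universal for algebras killed by a power of the maximal ideal. -/
theorem exists_complete {R : Type u} [CommRing R] [IsLocalRing R] [IsNoetherianRing R]
    [IsAdicComplete (maximalIdeal R) R] {ι : Type v} (N : ι → Type u) [∀ i, AddCommGroup (N i)]
    [∀ i, Module R (N i)] :
    ∃ I : Ideal R, I ≤ maximalIdeal R ∧
      (∀ (n : ℕ) (R' : Type u) [CommRing R'] [Algebra R R'],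
        (maximalIdeal R ^ (n + 1)).map (algebraMap R R') = ⊥ →
          ((∀ i, Module.Flat R' (R' ⊗[R] N i)) ↔ I.map (algebraMap R R') = ⊥)) ∧
      ∀ J : Ideal R, (∀ i, Module.Flat (R ⧸ J) ((R ⧸ J) ⊗[R] N i)) → I ≤ J := by
  choose K hK1 hK2 hK using fun n => exists_infinitesimal (R := R) N n
  have hq : ∀ (I : Ideal R), I.map (algebraMap R (R ⧸ I)) = ⊥ := fun I => Ideal.map_quotient_self I
  have hmono : ∀ n, K (n + 1) ≤ K n := fun n => by
    have h := (hK n (R ⧸ K n) (le_bot_iff.1 ((Ideal.map_mono (hK1 n)).trans (hq _).le))).2 (hq _)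
    have h' := (hK (n + 1) (R ⧸ K n) (le_bot_iff.1 ((Ideal.map_mono
      ((Ideal.pow_le_pow_right (Nat.le_succ _)).trans (hK1 n))).trans (hq _).le))).1 h
    rw [Ideal.map_eq_bot_iff_le_ker, Ideal.Quotient.algebraMap_eq, Ideal.mk_ker] at h'
    exact h'
  have hanti : Antitone K := antitone_nat_of_succ_le hmono
  have hstep : ∀ n, K n ≤ K (n + 1) ⊔ maximalIdeal R ^ (n + 1) := fun n => by
    let L := K (n + 1) ⊔ maximalIdeal R ^ (n + 1)
    have h := (hK (n + 1) (R ⧸ L) (le_bot_iff.1 ((Ideal.map_mono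
      ((Ideal.pow_le_pow_right (Nat.le_succ _)).trans le_sup_right)).trans (hq L).le))).2
        (le_bot_iff.1 ((Ideal.map_mono le_sup_left).trans (hq L).le))
    have h' := (hK n (R ⧸ L) (le_bot_iff.1 ((Ideal.map_mono le_sup_right).trans (hq L).le))).1 h
    rw [Ideal.map_eq_bot_iff_le_ker, Ideal.Quotient.algebraMap_eq, Ideal.mk_ker] at h'
    exact h'
  have hsum : ∀ n, K n = (⨅ j, K j) ⊔ maximalIdeal R ^ (n + 1) := fun n => by
    refine le_antisymm (fun x hx => ?_) (sup_le (iInf_le _ n) (hK1 n))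
    have hs : ∀ (j : ℕ) (y : R), ∃ z : R, y ∈ K (n + j) →
        z ∈ K (n + (j + 1)) ∧ z - y ∈ maximalIdeal R ^ (n + j + 1) := fun j y => by
      by_cases hy : y ∈ K (n + j)
      · obtain ⟨a, ha, b, hb, hab⟩ := Submodule.mem_sup.1 (hstep (n + j) hy)
        exact ⟨a, fun _ => ⟨ha, by rw [← hab, sub_add_cancel_left]; exact neg_mem hb⟩⟩
      · exact ⟨0, fun h => absurd h hy⟩
    choose z hz using hs
    let f : ℕ → R := Nat.rec x z
    have hf : ∀ j, f j ∈ K (n + j) := by
      intro j
      induction j with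
      | zero => exact hx
      | succ j ih => exact (hz j _ ih).1
    have hd : ∀ j k, j ≤ k → f k - f j ∈ maximalIdeal R ^ (n + j + 1) := by
      intro j k hjk
      induction hjk with
      | refl => simp
      | @step k hjk ih =>
        have := Ideal.pow_le_pow_right (show n + j + 1 ≤ n + k + 1 from by have : j ≤ k := hjk; omega) (hz k _ (hf k)).2
        simpa using add_mem ih this
    obtain ⟨L, hL⟩ := IsPrecomplete.prec (IsAdicComplete.toIsPrecomplete (I := maximalIdeal R) (M := R)) (f := f)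
      (fun {a b} hab => by
        rw [SModEq.sub_mem, smul_eq_mul, Ideal.mul_top, ← neg_sub]
        exact neg_mem (Ideal.pow_le_pow_right (by omega) (hd a b hab)))
    have hLd : ∀ j, L - f j ∈ maximalIdeal R ^ (n + j + 1) := fun j => by
      have h1 := (SModEq.sub_mem.1 (hL (n + j + 1)))
      rw [smul_eq_mul, Ideal.mul_top] at h1
      have h2 := hd j (n + j + 1) (by omega)
      have := sub_mem h2 h1
      simpa using this
    have hLK : L ∈ ⨅ j, K j := by
      rw [Submodule.mem_iInf]
      intro j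
      refine hanti (show j ≤ n + j from by omega) ?_
      have := add_mem (hK1 _ (hLd j)) (hf j)
      simpa using this
    exact Submodule.mem_sup.2 ⟨L, hLK, -(L - x), neg_mem (hLd 0), by ring⟩
  refine ⟨⨅ j, K j, (iInf_le _ 0).trans (hK2 0), fun n R' _ _ h0 => ?_, fun J hJ => ?_⟩
  · rw [hK n R' h0, hsum n, Ideal.map_sup, h0, sup_bot_eq]
  · intro x hx
    have hn : ∀ n, x ∈ J ⊔ maximalIdeal R ^ (n + 1) := fun n => by
      let L := J ⊔ maximalIdeal R ^ (n + 1)
      letI : Algebra (R ⧸ J) (R ⧸ L) := (Ideal.Quotient.factor (le_sup_left : J ≤ L)).toAlgebra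
      haveI : IsScalarTower R (R ⧸ J) (R ⧸ L) := IsScalarTower.of_algebraMap_eq fun _ => rfl
      have h : ∀ i, Module.Flat (R ⧸ L) ((R ⧸ L) ⊗[R] N i) := fun i => by
        haveI := hJ i
        exact (flat_cancel (B := R ⧸ J) (N i)).1 inferInstance
      have h' := (hK n (R ⧸ L) (le_bot_iff.1 ((Ideal.map_mono le_sup_right).trans (hq L).le))).1 h
      rw [Ideal.map_eq_bot_iff_le_ker, Ideal.Quotient.algebraMap_eq, Ideal.mk_ker] at h'
      exact h' ((iInf_le _ n : (⨅ j, K j) ≤ K n) hx)
    by_cases hJt : J = ⊤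
    · rw [hJt]; trivial
    have hJm : J ≤ maximalIdeal R := le_maximalIdeal hJt
    have h0 : Ideal.Quotient.mk J x ∈ (⨅ k : ℕ, maximalIdeal R ^ k • ⊤ : Submodule R (R ⧸ J)) := by
      rw [Submodule.mem_iInf]
      intro k
      obtain ⟨a, ha, b, hb, hab⟩ := Submodule.mem_sup.1 (hn k)
      rw [← hab, map_add, Ideal.Quotient.eq_zero_iff_mem.2 ha, zero_add]
      have := Submodule.smul_mem_smul (Ideal.pow_le_pow_right (Nat.le_succ k) hb)
        (Submodule.mem_top : (1 : R ⧸ J) ∈ (⊤ : Submodule R (R ⧸ J)))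
      rwa [Algebra.smul_def, mul_one] at this
    rw [Ideal.iInf_pow_smul_eq_bot_of_le_jacobson _ (le_of_eq (jacobson_eq_maximalIdeal _ bot_ne_top).symm)] at h0
    exact Ideal.Quotient.eq_zero_iff_mem.1 ((Submodule.mem_bot R).1 h0)

/-- The smallest flattening ideal flattens, for modules finite over a Noetherian ring with the maximal
ideal in its Jacobson radical. -/
theorem flat_quotient {R : Type u} [CommRing R] [IsLocalRing R] [IsNoetherianRing R] (I : Ideal R)
    (S : Type u) [CommRing S] [Algebra R S] [IsNoetherianRing S] (hS : (maximalIdeal R).map (algebraMap R S) ≤ Ideal.jacobson ⊥)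
    (N : Type u) [AddCommGroup N] [Module R N] [Module S N] [IsScalarTower R S N] [Module.Finite S N]
    (h : ∀ (n : ℕ) (R' : Type u) [CommRing R'] [Algebra R R'],
      (maximalIdeal R ^ (n + 1)).map (algebraMap R R') = ⊥ → I.map (algebraMap R R') = ⊥ →
        Module.Flat R' (R' ⊗[R] N)) :
    Module.Flat (R ⧸ I) ((R ⧸ I) ⊗[R] N) := by
  let S' := (R ⧸ I) ⊗[R] S
  letI : Algebra S S' := Algebra.TensorProduct.rightAlgebra
  have hsurj : Function.Surjective (algebraMap S S') :=
    Algebra.TensorProduct.includeRight_surjective S Ideal.Quotient.mk_surjective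
  haveI : IsNoetherianRing S' := isNoetherianRing_of_surjective _ _ (algebraMap S S') hsurj
  haveI : Module.Finite S' (S' ⊗[S] N) := Module.Finite.base_change S S' N
  let e : S' ⊗[S] N ≃ₗ[R ⧸ I] (R ⧸ I) ⊗[R] N := Algebra.IsPushout.cancelBaseChange R (R ⧸ I) S S' N
  let m := (maximalIdeal R).map (Ideal.Quotient.mk I)
  haveI : Module.Flat (R ⧸ I) (S' ⊗[S] N) := by
    refine Flatness.flat_of_forall_pow (R := R ⧸ I) (S := S') (M := S' ⊗[S] N) m ?_ fun n A B _ _ _ _ f hA hB hf => ?_
    · rw [Ideal.map_map, Ideal.map_le_iff_le_comap]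
      intro r hr
      rw [Ideal.mem_comap, Ideal.mem_jacobson_bot]
      intro y
      obtain ⟨y, rfl⟩ := hsurj y
      have hu := Ideal.mem_jacobson_bot.1 (hS (Ideal.mem_map_of_mem _ hr)) y
      have := hu.map (algebraMap S S')
      rw [map_add, map_mul, map_one, ← IsScalarTower.algebraMap_apply R S S'] at this
      exact this
    · refine Flatness.lTensor_injective_of_flat_quotient (R := R ⧸ I) (M := S' ⊗[S] N) (A := A) (B := B) (m ^ (n + 1)) ?_ ?_ ?_ f hf
      · have hQ : (maximalIdeal R ^ (n + 1)).map (algebraMap R ((R ⧸ I) ⧸ m ^ (n + 1))) = ⊥ := by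
          rw [IsScalarTower.algebraMap_eq R (R ⧸ I), ← Ideal.map_map, Ideal.map_pow,
            Ideal.Quotient.algebraMap_eq, Ideal.Quotient.algebraMap_eq, Ideal.map_quotient_self]
        have hI : I.map (algebraMap R ((R ⧸ I) ⧸ m ^ (n + 1))) = ⊥ := by
          rw [IsScalarTower.algebraMap_eq R (R ⧸ I), ← Ideal.map_map, Ideal.Quotient.algebraMap_eq,
            Ideal.Quotient.algebraMap_eq, Ideal.map_quotient_self, Ideal.map_bot]
        haveI := (flat_cancel (B := R ⧸ I) N).2 (h n _ hQ hI)
        let e' := e.baseChange (R ⧸ I) ((R ⧸ I) ⧸ m ^ (n + 1))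
        exact Module.Flat.of_linearEquiv e'
      · exact fun a r => @hA a ⟨r.1, Ideal.pow_le_pow_right (Nat.le_succ n) r.2⟩
      · exact fun a r => @hB a ⟨r.1, Ideal.pow_le_pow_right (Nat.le_succ n) r.2⟩
  exact Module.Flat.of_linearEquiv e.symm

end GrothLib.Flattening
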