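import Groth.Agent.Lib.FlatAbove.Killed
import Mathlib.RingTheory.Localization.BaseChange
import Mathlib.RingTheory.TensorProduct.Maps

/-! # Flatness at primes of a localization of a base change -/

set_option autoImplicit false
universe u

open TensorProduct

namespace GrothLib.Flattening

/-- Flatness at a prime of a localized module. -/
theorem flatAt_localization_iff {T B C : Type u} [CommRing T] [CommRing B] [CommRing C] [Algebra T B] [Algebra T C]
    [Algebra B C] [IsScalarTower T B C] (W : Submonoid B) [IsLocalization W C]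
    {N L : Type u} [AddCommGroup N] [Module B N] [Module T N] [IsScalarTower T B N]
    [AddCommGroup L] [Module C L] [Module B L] [IsScalarTower B C L] [Module T L] [IsScalarTower T C L]
    [IsScalarTower T B L]
    (h : N →ₗ[B] L) [IsLocalizedModule W h] (q : Ideal C) [q.IsPrime] :
    FlatCA.FlatAt T q L ↔ FlatCA.FlatAt T (q.comap (algebraMap B C)) N := by
  rw [FlatAbove.flatAt_iff_killed, FlatAbove.flatAt_iff_killed]
  have hW : ∀ w ∈ W, algebraMap B C w ∉ q := fun w hw hq =>
    Ideal.IsPrime.ne_top ‹_› (Ideal.eq_top_of_isUnit_mem q hq (IsLocalization.map_units C ⟨w, hw⟩))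
  have hsm : ∀ {X : Type u} [AddCommGroup X] [Module T X] (b : B) (z : L ⊗[T] X), algebraMap B C b • z = b • z := by
    intro X _ _ b z
    induction z using TensorProduct.induction_on with
    | zero => simp
    | add a c ha hc => simp only [smul_add, ha, hc]
    | tmul a c => rw [smul_tmul', smul_tmul', algebraMap_smul]
  have hnat : ∀ {X Y : Type u} [AddCommGroup X] [AddCommGroup Y] [Module T X] [Module T Y] (f : X →ₗ[T] Y) (z : N ⊗[T] X),
      AlgebraTensorModule.rTensor T Y h (f.lTensor N z) = f.lTensor L (AlgebraTensorModule.rTensor T X h z) := fun f z => by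
    induction z using TensorProduct.induction_on with
    | zero => simp only [map_zero]
    | tmul x y => rfl
    | add a b ha hb => simp only [map_add, ha, hb]
  constructor
  · intro hL X Y _ _ _ _ f hf z hz
    obtain ⟨s, hs, hsz⟩ := hL X Y f hf (AlgebraTensorModule.rTensor T X h z) (by rw [← hnat, hz, map_zero])
    obtain ⟨b, w, rfl⟩ := IsLocalization.exists_mk'_eq W s
    have hb : algebraMap B C b ∉ q := fun hb => hs (by
      rw [IsLocalization.mk'_mem_iff]; exact hb)
    have h1 : b • AlgebraTensorModule.rTensor T X h z = 0 := by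
      rw [← hsm, show algebraMap B C b = algebraMap B C w * IsLocalization.mk' C b w from
        (IsLocalization.mk'_spec' C b w).symm, mul_smul, hsz, smul_zero]
    rw [← map_smul] at h1
    obtain ⟨w', hw'⟩ := (IsLocalizedModule.eq_zero_iff W (AlgebraTensorModule.rTensor T X h)).1 h1
    refine ⟨(w' : B) * b, fun hm => ?_, by rw [mul_smul]; exact hw'⟩
    rcases (Ideal.IsPrime.comap (algebraMap B C)).mem_or_mem hm with hm | hm
    · exact hW _ w'.2 hm
    · exact hb hm
  · intro hN X Y _ _ _ _ f hf z hz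
    obtain ⟨⟨y, w⟩, hy⟩ := IsLocalizedModule.surj W (AlgebraTensorModule.rTensor T X h) z
    have h1 : AlgebraTensorModule.rTensor T Y h (f.lTensor N y) = 0 := by
      rw [hnat, show AlgebraTensorModule.rTensor T X h y = (w : B) • z from hy.symm]
      show (AlgebraTensorModule.lTensor B L f) ((w : B) • z) = 0
      rw [map_smul]
      exact (congrArg ((w : B) • ·) hz).trans (smul_zero _)
    obtain ⟨w', hw'⟩ := (IsLocalizedModule.eq_zero_iff W (AlgebraTensorModule.rTensor T Y h)).1 h1
    obtain ⟨b, hb, hby⟩ := hN X Y f hf ((w' : B) • y) (by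
      show (AlgebraTensorModule.lTensor B N f) ((w' : B) • y) = 0
      rw [map_smul]; exact hw')
    refine ⟨algebraMap B C (b * w' * w), fun hm => ?_, ?_⟩
    · rw [map_mul, map_mul] at hm
      rcases (‹q.IsPrime›).mem_or_mem hm with hm | hm
      · rcases (‹q.IsPrime›).mem_or_mem hm with hm | hm
        · exact hb hm
        · exact hW _ w'.2 hm
      · exact hW _ w.2 hm
    · rw [hsm, mul_smul, show (w : B) • z = AlgebraTensorModule.rTensor T X h y from hy, ← map_smul, mul_smul, hby, map_zero]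

attribute [local instance] Algebra.TensorProduct.rightAlgebra

/-- The primes and flatness of a base change of a localization, read on the base change of a model. -/
theorem exists_model_map {R S₀ S : Type u} [CommRing R] [CommRing S₀] [CommRing S] [Algebra R S₀] [Algebra R S]
    [Algebra S₀ S] [IsScalarTower R S₀ S] (W : Submonoid S₀) [IsLocalization W S]
    {M₀ M : Type u} [AddCommGroup M₀] [Module S₀ M₀] [AddCommGroup M] [Module S M] [Module S₀ M] [IsScalarTower S₀ S M]
    (l : M₀ →ₗ[S₀] M) [IsLocalizedModule W l]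
    (T ST MT : Type u) [CommRing T] [Algebra R T] [CommRing ST] [Algebra R ST] [Algebra S ST] [Algebra T ST]
    [IsScalarTower R S ST] [IsScalarTower R T ST] [Algebra.IsPushout R S T ST]
    [AddCommGroup MT] [Module ST MT] [Module T MT] [IsScalarTower T ST MT] [Module S MT] [IsScalarTower S ST MT]
    (φ : M →ₗ[S] MT) (hφ : IsBaseChange ST φ) :
    ∃ ψ : T ⊗[R] S₀ →+* ST, (∀ t, ψ (t ⊗ₜ 1) = algebraMap T ST t) ∧
      (∀ s, ψ (algebraMap S₀ (T ⊗[R] S₀) s) = algebraMap S ST (algebraMap S₀ S s)) ∧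
      (∀ (q : Ideal ST) [q.IsPrime],
        FlatCA.FlatAt T q MT ↔ Module.Flat T (LocalizedModule (q.comap ψ).primeCompl ((T ⊗[R] S₀) ⊗[S₀] M₀))) ∧
      ∀ (P : Ideal (T ⊗[R] S₀)) [P.IsPrime], (∀ w ∈ W, algebraMap S₀ (T ⊗[R] S₀) w ∉ P) →
        ∃ (q : Ideal ST) (_ : q.IsPrime), q.comap ψ = P := by
  letI : Algebra S₀ ST := ((algebraMap S ST).comp (algebraMap S₀ S)).toAlgebra
  haveI : IsScalarTower S₀ S ST := IsScalarTower.of_algebraMap_eq fun _ => rfl
  haveI : IsScalarTower R S₀ ST := IsScalarTower.of_algebraMap_eq fun r => by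
    show _ = algebraMap S ST (algebraMap S₀ S (algebraMap R S₀ r))
    rw [← IsScalarTower.algebraMap_apply R S₀ S, ← IsScalarTower.algebraMap_apply R S ST]
  let ψ : T ⊗[R] S₀ →ₐ[T] ST := Algebra.TensorProduct.lift (Algebra.ofId T ST)
    (IsScalarTower.toAlgHom R S₀ ST) fun _ _ => Commute.all _ _
  letI : Algebra (T ⊗[R] S₀) ST := ψ.toRingHom.toAlgebra
  haveI : IsScalarTower T (T ⊗[R] S₀) ST := IsScalarTower.of_algebraMap_eq fun t => (ψ.commutes t).symm
  have hψ₀ : ∀ s, ψ (algebraMap S₀ (T ⊗[R] S₀) s) = algebraMap S ST (algebraMap S₀ S s) := fun s => by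
    show ψ (1 ⊗ₜ s) = _
    simp [ψ]
    rfl
  haveI : IsScalarTower S₀ (T ⊗[R] S₀) ST := IsScalarTower.of_algebraMap_eq fun s => (hψ₀ s).symm
  haveI : IsScalarTower R (T ⊗[R] S₀) ST := IsScalarTower.of_algebraMap_eq fun r => by
    rw [IsScalarTower.algebraMap_apply R T ST, IsScalarTower.algebraMap_apply R T (T ⊗[R] S₀)]
    exact (ψ.commutes _).symm
  haveI : Algebra.IsPushout R S₀ T (T ⊗[R] S₀) := Algebra.IsPushout.symm inferInstance
  haveI hpo : Algebra.IsPushout S₀ S (T ⊗[R] S₀) ST := (Algebra.IsPushout.comp_iff R S₀ T (T ⊗[R] S₀)).1 inferInstance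
  haveI : Algebra.IsPushout S₀ (T ⊗[R] S₀) S ST := hpo.symm
  haveI hloc : IsLocalization (Algebra.algebraMapSubmonoid (T ⊗[R] S₀) W) ST :=
    (Algebra.isLocalization_iff_isPushout W S).2 inferInstance
  let W' := Algebra.algebraMapSubmonoid (T ⊗[R] S₀) W
  letI : Module (T ⊗[R] S₀) MT := Module.compHom MT ψ.toRingHom
  haveI : IsScalarTower (T ⊗[R] S₀) ST MT := IsScalarTower.of_algebraMap_smul fun _ _ => rfl
  letI : Module S₀ MT := Module.compHom MT (algebraMap S₀ S)
  haveI : IsScalarTower S₀ S MT := IsScalarTower.of_algebraMap_smul fun _ _ => rfl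
  haveI : IsScalarTower S₀ (T ⊗[R] S₀) MT := IsScalarTower.of_algebraMap_smul fun s x => by
    show ψ (algebraMap S₀ _ s) • x = algebraMap S₀ S s • x
    rw [hψ₀, algebraMap_smul]
  haveI : IsScalarTower S₀ ST MT := IsScalarTower.of_algebraMap_smul fun s x => by
    show algebraMap S ST (algebraMap S₀ S s) • x = algebraMap S₀ S s • x
    rw [algebraMap_smul]
  haveI : IsScalarTower T (T ⊗[R] S₀) MT := IsScalarTower.of_algebraMap_smul fun t x => by
    show ψ (algebraMap T _ t) • x = t • x
    rw [ψ.commutes, algebraMap_smul]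
  let φ₀ : M₀ →ₗ[S₀] MT := (φ.restrictScalars S₀).comp l
  have hφ₀ : IsBaseChange ST φ₀ := (IsLocalizedModule.isBaseChange W S l).comp hφ
  have hι : IsBaseChange (T ⊗[R] S₀) (TensorProduct.mk S₀ (T ⊗[R] S₀) M₀ 1) := TensorProduct.isBaseChange S₀ M₀ _
  let h := hι.lift φ₀
  have hh : IsBaseChange ST h := hι.of_comp (h := h) (by
    rw [show (h : _ →ₗ[S₀] MT) ∘ₗ TensorProduct.mk S₀ (T ⊗[R] S₀) M₀ 1 = φ₀ from hι.lift_comp φ₀]
    exact hφ₀)
  haveI : IsLocalizedModule W' h := (isLocalizedModule_iff_isBaseChange W' ST h).2 hh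
  refine ⟨ψ.toRingHom, fun t => ψ.commutes t, hψ₀, fun q _ => flatAt_localization_iff W' h q, fun P _ hP => ?_⟩
  have hd : Disjoint (W' : Set (T ⊗[R] S₀)) ↑P := by
    rw [Set.disjoint_left]
    rintro _ ⟨w, hw, rfl⟩
    exact hP w hw
  exact ⟨P.map (algebraMap (T ⊗[R] S₀) ST), IsLocalization.isPrime_of_isPrime_disjoint W' ST P inferInstance hd,
    IsLocalization.comap_map_of_isPrime_disjoint W' ST inferInstance hd⟩

end GrothLib.Flattening
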