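import Groth.Agent.Lib.FlatAbove.Killed
import Groth.Agent.Lib.FibreFlat.OpenNoetherian
import Groth.Agent.Lib.Flatness.Criterion
import Mathlib.RingTheory.IsTensorProduct

/-! # Flatness of base changes via injectivity -/

set_option autoImplicit false
universe u

open TensorProduct

namespace GrothLib.Flattening

/-- A base change is flat iff tensoring with the original module preserves injectivity of maps of
modules over the new base. -/
theorem flat_iff_injective (A C : Type u) [CommRing A] [CommRing C] [Algebra A C] (M : Type u) [AddCommGroup M]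
    [Module A M] :
    Module.Flat C (C ⊗[A] M) ↔ ∀ (X Y : Type u) [AddCommGroup X] [AddCommGroup Y] [Module C X] [Module C Y]
      [Module A X] [Module A Y] [IsScalarTower A C X] [IsScalarTower A C Y] (f : X →ₗ[C] Y),
        Function.Injective f → Function.Injective ((f.restrictScalars A).rTensor M) := by
  have key : ∀ (X Y : Type u) [AddCommGroup X] [AddCommGroup Y] [Module C X] [Module C Y] [Module A X] [Module A Y]
      [IsScalarTower A C X] [IsScalarTower A C Y] (f : X →ₗ[C] Y) (x : X ⊗[C] (C ⊗[A] M)),
      AlgebraTensorModule.cancelBaseChange A C C Y M (f.rTensor _ x) =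
        (f.restrictScalars A).rTensor M (AlgebraTensorModule.cancelBaseChange A C C X M x) :=
    fun X Y _ _ _ _ _ _ _ _ f x => by
    induction x using TensorProduct.induction_on with
    | zero => simp
    | add x y hx hy => simp only [map_add, hx, hy]
    | tmul a y =>
      induction y using TensorProduct.induction_on with
      | zero => simp
      | add x y hx hy => simp only [tmul_add, map_add, hx, hy]
      | tmul r m =>
        simp only [LinearMap.rTensor_tmul, AlgebraTensorModule.cancelBaseChange_tmul]
        exact congrArg (fun z => z ⊗ₜ[A] m) (f.map_smul r a).symm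
  constructor
  · intro _ X Y _ _ _ _ _ _ _ _ f hf x y hxy
    obtain ⟨x, rfl⟩ := (AlgebraTensorModule.cancelBaseChange A C C X M).surjective x
    obtain ⟨y, rfl⟩ := (AlgebraTensorModule.cancelBaseChange A C C X M).surjective y
    rw [← key, ← key] at hxy
    rw [Module.Flat.rTensor_preserves_injective_linearMap f hf
      ((AlgebraTensorModule.cancelBaseChange A C C Y M).injective hxy)]
  · intro h
    rw [Module.Flat.iff_rTensor_preserves_injective_linearMap]
    intro X Y _ _ _ _ f hf x y hxy
    letI : Module A X := Module.compHom X (algebraMap A C)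
    letI : Module A Y := Module.compHom Y (algebraMap A C)
    haveI : IsScalarTower A C X := IsScalarTower.of_algebraMap_smul fun _ _ => rfl
    haveI : IsScalarTower A C Y := IsScalarTower.of_algebraMap_smul fun _ _ => rfl
    have h' := congrArg (AlgebraTensorModule.cancelBaseChange A C C Y M) hxy
    rw [key, key] at h'
    exact (AlgebraTensorModule.cancelBaseChange A C C X M).injective (h X Y f hf h')

variable {R S R' S' M M' : Type u} [CommRing R] [CommRing S] [CommRing R'] [CommRing S']
    [Algebra R S] [Algebra R R'] [Algebra S S'] [Algebra R' S'] [Algebra R S']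
    [IsScalarTower R S S'] [IsScalarTower R R' S'] [Algebra.IsPushout R S R' S']
    [AddCommGroup M] [Module S M] [Module R M] [IsScalarTower R S M]
    [AddCommGroup M'] [Module S' M'] [Module R' M'] [IsScalarTower R' S' M'] [Module S M'] [IsScalarTower S S' M']
    (φ : M →ₗ[S] M') (hφ : IsBaseChange S' φ)
include hφ

/-- `M' ⊗[R'] X = M ⊗[R] X` when `M' = S' ⊗[S] M` and `S' = S ⊗[R] R'`. -/
theorem exists_equiv (X : Type u) [AddCommGroup X] [Module R' X] [Module R X] [IsScalarTower R R' X] :
    ∃ e : M ⊗[R] X ≃+ M' ⊗[R'] X, (∀ m x, e (m ⊗ₜ x) = φ m ⊗ₜ x) ∧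
      ∀ (s : S) z, e (s • z) = algebraMap S S' s • e z := by
  haveI : Algebra.IsPushout R R' S S' := Algebra.IsPushout.symm inferInstance
  let E : M' ≃ₗ[R'] R' ⊗[R] M := (hφ.equiv.symm.restrictScalars R') ≪≫ₗ
    Algebra.IsPushout.cancelBaseChange R R' S S' M
  have hE : ∀ m, E.symm (1 ⊗ₜ[R] m) = φ m := fun m => by
    rw [LinearEquiv.symm_apply_eq]
    show (1 : R') ⊗ₜ[R] m = Algebra.IsPushout.cancelBaseChange R R' S S' M (hφ.equiv.symm (φ m))
    rw [hφ.equiv_symm_apply, Algebra.IsPushout.cancelBaseChange_tmul]
  let e : M ⊗[R] X ≃+ M' ⊗[R'] X :=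
    (TensorProduct.comm R M X).toAddEquiv.trans
      (((AlgebraTensorModule.cancelBaseChange R R' R' X M).symm ≪≫ₗ
        TensorProduct.congr (LinearEquiv.refl R' X) E.symm ≪≫ₗ TensorProduct.comm R' X M').toAddEquiv)
  have he : ∀ m x, e (m ⊗ₜ x) = φ m ⊗ₜ x := fun m x => by
    show (TensorProduct.comm R' X M') (TensorProduct.congr (LinearEquiv.refl R' X) E.symm
      ((AlgebraTensorModule.cancelBaseChange R R' R' X M).symm (x ⊗ₜ[R] m))) = _
    rw [AlgebraTensorModule.cancelBaseChange_symm_tmul, TensorProduct.congr_tmul, hE]
    rfl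
  refine ⟨e, he, fun s z => ?_⟩
  induction z using TensorProduct.induction_on with
  | zero => simp
  | add a b ha hb => simp only [smul_add, map_add, ha, hb]
  | tmul m x => rw [smul_tmul', he, he, map_smul, smul_tmul', algebraMap_smul]

/-- Flatness at `q'` of the base change follows from flatness of the base change of `M_q`. -/
theorem flatAt_of_flat_baseChange [IsLocalRing R'] (q' : Ideal S') [q'.IsPrime]
    (h : Module.Flat R' (R' ⊗[R] LocalizedModule (q'.comap (algebraMap S S')).primeCompl M)) :
    FlatCA.FlatAt R' q' M' := by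
  rw [FlatAbove.flatAt_iff_killed]
  intro X Y _ _ _ _ f hf z hz
  letI : Module R X := Module.compHom X (algebraMap R R')
  letI : Module R Y := Module.compHom Y (algebraMap R R')
  haveI : IsScalarTower R R' X := IsScalarTower.of_algebraMap_smul fun _ _ => rfl
  haveI : IsScalarTower R R' Y := IsScalarTower.of_algebraMap_smul fun _ _ => rfl
  obtain ⟨eX, heX, heXs⟩ := exists_equiv (R := R) (R' := R') φ hφ X
  obtain ⟨eY, heY, -⟩ := exists_equiv (R := R) (R' := R') φ hφ Y
  have hc : ∀ w, eY ((f.restrictScalars R).lTensor M w) = f.lTensor M' (eX w) := fun w => by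
    induction w using TensorProduct.induction_on with
    | zero => simp
    | add a b ha hb => simp only [map_add, ha, hb]
    | tmul a b => simp [heX, heY]
  obtain ⟨w, rfl⟩ := eX.surjective z
  have hw : (f.restrictScalars R).lTensor M w = 0 := eY.injective (by rw [hc, hz, map_zero])
  let T := (q'.comap (algebraMap S S')).primeCompl
  let L := LocalizedModule T M
  let l : M →ₗ[S] L := LocalizedModule.mkLinearMap T M
  have hinj : Function.Injective ((f.restrictScalars R).lTensor L) :=
    (LinearMap.lTensor_inj_iff_rTensor_inj L _).2 ((flat_iff_injective R R' L).1 h X Y f hf)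
  have hn : ∀ u, AlgebraTensorModule.rTensor R Y l ((f.restrictScalars R).lTensor M u) =
      (f.restrictScalars R).lTensor L (AlgebraTensorModule.rTensor R X l u) := fun u => by
    induction u using TensorProduct.induction_on with
    | zero => simp
    | add a b ha hb => simp only [map_add, ha, hb]
    | tmul a b => rfl
  have h0 : AlgebraTensorModule.rTensor R X l w = 0 := hinj (by rw [← hn, hw, map_zero, map_zero])
  obtain ⟨s, hs⟩ := (IsLocalizedModule.eq_zero_iff T (AlgebraTensorModule.rTensor R X l)).1 h0
  exact ⟨algebraMap S S' s, s.2, by rw [← heXs, show (s : S) • w = 0 from hs, map_zero]⟩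

/-- If the base change is flat at all primes over the maximal ideal, so are all the `M_q` after base
change to an algebra in which a power of the maximal ideal vanishes. -/
theorem flat_baseChange_of_flatAt [IsLocalRing R'] (C : Type u) [CommRing C] [Algebra R' C] [Algebra R C]
    [IsScalarTower R R' C] (n : ℕ) (hC : (IsLocalRing.maximalIdeal R' ^ (n + 1)).map (algebraMap R' C) = ⊥)
    (h : ∀ (q' : Ideal S') [q'.IsPrime], q'.comap (algebraMap R' S') = IsLocalRing.maximalIdeal R' →
      FlatCA.FlatAt R' q' M') (T : Submonoid S) :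
    Module.Flat C (C ⊗[R] LocalizedModule T M) := by
  rw [flat_iff_injective]
  intro X Y _ _ _ _ _ _ _ _ f hf
  rw [← LinearMap.lTensor_inj_iff_rTensor_inj]
  refine FibreFlat.lTensor_injective_of_isLocalizedModule T (LocalizedModule.mkLinearMap T M) _
    fun w hw => ⟨1, T.one_mem, ?_⟩
  rw [one_smul]
  letI : Module R' X := Module.compHom X (algebraMap R' C)
  letI : Module R' Y := Module.compHom Y (algebraMap R' C)
  haveI : IsScalarTower R' C X := IsScalarTower.of_algebraMap_smul fun _ _ => rfl
  haveI : IsScalarTower R' C Y := IsScalarTower.of_algebraMap_smul fun _ _ => rfl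
  haveI : IsScalarTower R R' X := IsScalarTower.of_algebraMap_smul fun r x => by
    rw [← algebraMap_smul C, ← IsScalarTower.algebraMap_apply, algebraMap_smul]
  haveI : IsScalarTower R R' Y := IsScalarTower.of_algebraMap_smul fun r x => by
    rw [← algebraMap_smul C, ← IsScalarTower.algebraMap_apply, algebraMap_smul]
  obtain ⟨eX, heX, -⟩ := exists_equiv (R := R) (R' := R') φ hφ X
  obtain ⟨eY, heY, -⟩ := exists_equiv (R := R) (R' := R') φ hφ Y
  let g : X →ₗ[R'] Y := f.restrictScalars R'
  have hc : ∀ u, eY ((f.restrictScalars R).lTensor M u) = g.lTensor M' (eX u) := fun u => by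
    induction u using TensorProduct.induction_on with
    | zero => simp
    | add a b ha hb => simp only [map_add, ha, hb]
    | tmul a b => simp [heX, heY, g]
  apply eX.injective
  rw [map_zero]
  set z := eX w with hz
  have hz0 : g.lTensor M' z = 0 := by rw [hz, ← hc, hw, map_zero]
  by_contra hne
  let J : Ideal S' := Ideal.torsionOf S' (M' ⊗[R'] X) z
  obtain ⟨q', hq', hJq⟩ := Ideal.exists_le_maximal J (by rw [Ne, Ideal.torsionOf_eq_top_iff]; exact hne)
  haveI := hq'.isPrime
  have hkill : ∀ r ∈ IsLocalRing.maximalIdeal R' ^ (n + 1), algebraMap R' S' r ∈ q' := fun r hr => hJq (by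
    rw [Ideal.mem_torsionOf_iff, algebraMap_smul]
    have hrX : ∀ x : X, r • x = 0 := fun x => by
      rw [← algebraMap_smul C, show algebraMap R' C r = 0 from
        Ideal.mem_bot.1 (hC ▸ Ideal.mem_map_of_mem _ hr), zero_smul]
    generalize z = u
    induction u using TensorProduct.induction_on with
    | zero => simp
    | add a b ha hb => rw [smul_add, ha, hb, add_zero]
    | tmul a b => rw [← tmul_smul, hrX, tmul_zero])
  have hm : q'.comap (algebraMap R' S') = IsLocalRing.maximalIdeal R' := by
    haveI : (q'.comap (algebraMap R' S')).IsPrime := Ideal.IsPrime.comap _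
    refine le_antisymm (IsLocalRing.le_maximalIdeal (Ideal.IsPrime.ne_top inferInstance)) ?_
    exact (Ideal.IsPrime.pow_le_iff n.succ_ne_zero).1 fun r hr => hkill r hr
  obtain ⟨s, hsq, hs⟩ := (FlatAbove.flatAt_iff_killed q').1 (h q' hm) X Y g hf z hz0
  exact hsq (hJq ((Ideal.mem_torsionOf_iff z s).2 hs))

end GrothLib.Flattening
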