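import Groth.Agent.Lib.FlatLimit.Pointwise
import Groth.Agent.Lib.FibreFlat.OpenLocus
import Mathlib.LinearAlgebra.TensorProduct.DirectLimit
import Mathlib.RingTheory.TensorProduct.Maps

/-! # Flatness over a family of closed subsets descends to a stage -/

set_option autoImplicit false
universe u

open TensorProduct

namespace GrothLib.Flattening

attribute [local instance] Algebra.TensorProduct.rightAlgebra

variable {R : Type u} [CommRing R] {ι : Type u} [Preorder ι] (G : ι → Type u) [∀ i, CommRing (G i)]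
  [∀ i, Algebra R (G i)] (g : ∀ i j, i ≤ j → G i →ₐ[R] G j) (R' : Type u) [CommRing R'] [Algebra R R']
  [∀ i, Algebra (G i) R'] [∀ i, IsScalarTower R (G i) R']

/-- Tensoring a directed colimit. -/
theorem tensor_stage (hdir : IsDirected ι (· ≤ ·)) (hne : Nonempty ι) (hrefl : ∀ i x, g i i le_rfl x = x)
    (htrans : ∀ i j k (h : i ≤ j) (h' : j ≤ k) x, g j k h' (g i j h x) = g i k (h.trans h') x)
    (hcomm : ∀ i j h x, algebraMap (G j) R' (g i j h x) = algebraMap (G i) R' x)
    (hsurj : ∀ a : R', ∃ i, ∃ x : G i, algebraMap (G i) R' x = a)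
    (hzero : ∀ i (x : G i), algebraMap (G i) R' x = 0 → ∃ j, ∃ h : i ≤ j, g i j h x = 0)
    (M : Type u) [AddCommGroup M] [Module R M] :
    (∀ z : R' ⊗[R] M, ∃ i y, (IsScalarTower.toAlgHom R (G i) R').toLinearMap.rTensor M y = z) ∧
    ∀ i (y : G i ⊗[R] M), (IsScalarTower.toAlgHom R (G i) R').toLinearMap.rTensor M y = 0 →
      ∃ j, ∃ h : i ≤ j, (g i j h).toLinearMap.rTensor M y = 0 := by
  classical
  haveI : IsDirectedOrder ι := hdir
  let f : ∀ i j, i ≤ j → G i →ₗ[R] G j := fun i j h => (g i j h).toLinearMap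
  haveI : DirectedSystem G (f · · ·) :=
    ⟨fun i x => hrefl i x, fun i j k h h' x => htrans k j i h h' x⟩
  let q : ∀ i, G i →ₗ[R] R' := fun i => (IsScalarTower.toAlgHom R (G i) R').toLinearMap
  let L : Module.DirectLimit G f →ₗ[R] R' := Module.DirectLimit.lift R ι G f q hcomm
  have hL : ∀ i x, L (Module.DirectLimit.of R ι G f i x) = q i x := fun i x => Module.DirectLimit.lift_of ..
  have hLb : Function.Bijective L := by
    constructor
    · rw [injective_iff_map_eq_zero]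
      intro z hz
      obtain ⟨i, x, rfl⟩ := Module.DirectLimit.exists_of z
      rw [hL] at hz
      obtain ⟨j, h, hj⟩ := hzero i x hz
      rw [← Module.DirectLimit.of_f (hij := h), show f i j h x = 0 from hj, map_zero]
    · intro a
      obtain ⟨i, x, rfl⟩ := hsurj a
      exact ⟨Module.DirectLimit.of R ι G f i x, hL i x⟩
  let e := LinearEquiv.ofBijective L hLb
  have he : ∀ i, q i = e.toLinearMap ∘ₗ Module.DirectLimit.of R ι G f i := fun i =>
    LinearMap.ext fun x => (hL i x).symm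
  have hinj : ∀ i (y : G i ⊗[R] M), (q i).rTensor M y = e.rTensor M ((Module.DirectLimit.of R ι G f i).rTensor M y) :=
    fun i y => by rw [he i, LinearMap.rTensor_comp_apply]; rfl
  constructor
  · intro z
    obtain ⟨w, rfl⟩ := (e.rTensor M).surjective z
    obtain ⟨i, y, hy⟩ := Module.DirectLimit.exists_of (TensorProduct.directLimitLeft f M w)
    refine ⟨i, y, ?_⟩
    rw [hinj]
    congr 1
    apply (TensorProduct.directLimitLeft f M).injective
    rw [TensorProduct.directLimitLeft_rTensor_of]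
    exact hy
  · intro i y hy
    have h0 : (Module.DirectLimit.of R ι G f i).rTensor M y = 0 :=
      (e.rTensor M).injective ((hinj i y).symm.trans (hy.trans (map_zero _).symm))
    have h1 := congrArg (TensorProduct.directLimitLeft f M) h0
    rw [TensorProduct.directLimitLeft_rTensor_of, map_zero] at h1
    exact Module.DirectLimit.of.zero_exact h1

set_option maxHeartbeats 800000 in
/-- If the base change of a finitely presented module to a colimit is flat at the primes of a closed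
set outside a multiplicative set, the same holds at a stage. -/
theorem exists_stage_flat_fp (hdir : IsDirected ι (· ≤ ·)) (hne : Nonempty ι) (hrefl : ∀ i x, g i i le_rfl x = x)
    (htrans : ∀ i j k (h : i ≤ j) (h' : j ≤ k) x, g j k h' (g i j h x) = g i k (h.trans h') x)
    (hcomm : ∀ i j h x, algebraMap (G j) R' (g i j h x) = algebraMap (G i) R' x)
    (hsurj : ∀ a : R', ∃ i, ∃ x : G i, algebraMap (G i) R' x = a)
    (hzero : ∀ i (x : G i), algebraMap (G i) R' x = 0 → ∃ j, ∃ h : i ≤ j, g i j h x = 0)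
    (B₀ : Type u) [CommRing B₀] [Algebra R B₀] [Algebra.FinitePresentation R B₀]
    (M₀ : Type u) [AddCommGroup M₀] [Module B₀ M₀] [Module R M₀] [IsScalarTower R B₀ M₀]
    [Module.FinitePresentation B₀ M₀]
    (K : ∀ i, Ideal (G i)) (hK : ∀ i j h, (K i).map (g i j h) ≤ K j) (J₀ : Ideal B₀) (W : Submonoid B₀)
    (h : ∀ (P : Ideal (R' ⊗[R] B₀)) [P.IsPrime], (∀ i, ∀ x ∈ K i, algebraMap (G i) R' x ⊗ₜ[R] (1 : B₀) ∈ P) →
      J₀.map (algebraMap B₀ (R' ⊗[R] B₀)) ≤ P → (∀ w ∈ W, algebraMap B₀ (R' ⊗[R] B₀) w ∉ P) →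
        Module.Flat R' (LocalizedModule P.primeCompl ((R' ⊗[R] B₀) ⊗[B₀] M₀))) :
    ∃ i, ∀ (Q : Ideal (G i ⊗[R] B₀)) [Q.IsPrime], (∀ x ∈ K i, x ⊗ₜ[R] (1 : B₀) ∈ Q) →
      J₀.map (algebraMap B₀ (G i ⊗[R] B₀)) ≤ Q → (∀ w ∈ W, algebraMap B₀ (G i ⊗[R] B₀) w ∉ Q) →
        Module.Flat (G i) (LocalizedModule Q.primeCompl ((G i ⊗[R] B₀) ⊗[B₀] M₀)) := by
  classical
  obtain ⟨hts, htz⟩ := tensor_stage G g R' hdir hne hrefl htrans hcomm hsurj hzero B₀
  let β : ∀ i, (G i ⊗[R] B₀) →ₐ[R] (R' ⊗[R] B₀) := fun i =>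
    Algebra.TensorProduct.map (IsScalarTower.toAlgHom R (G i) R') (AlgHom.id R B₀)
  let t : ∀ i j, i ≤ j → (G i ⊗[R] B₀) →ₐ[R] (G j ⊗[R] B₀) := fun i j h => Algebra.TensorProduct.map (g i j h) (AlgHom.id R B₀)
  have hβlin : ∀ i (y : (G i ⊗[R] B₀)), (IsScalarTower.toAlgHom R (G i) R').toLinearMap.rTensor B₀ y = β i y := fun i y => rfl
  have htlin : ∀ i j h (y : (G i ⊗[R] B₀)), (g i j h).toLinearMap.rTensor B₀ y = t i j h y := fun i j h y => rfl
  have htβ : ∀ i j h y, β j (t i j h y) = β i y := fun i j h y => by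
    induction y using TensorProduct.induction_on with
    | zero => simp
    | add a b ha hb => simp only [map_add, ha, hb]
    | tmul a b => simp [β, t, hcomm]
  have htt : ∀ i j k (h : i ≤ j) (h' : j ≤ k) y, t j k h' (t i j h y) = t i k (h.trans h') y := fun i j k h h' y => by
    induction y using TensorProduct.induction_on with
    | zero => simp
    | add a b ha hb => simp only [map_add, ha, hb]
    | tmul a b => simp [t, htrans]
  have hβs : ∀ z : (R' ⊗[R] B₀), ∃ i y, β i y = z := hts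
  have hβz : ∀ i y, β i y = 0 → ∃ j, ∃ h : i ≤ j, t i j h y = 0 := htz
  -- the non-flat loci
  let Z : ∀ i, Set (PrimeSpectrum ((G i ⊗[R] B₀))) := fun i =>
    {x | Module.Flat (G i) (LocalizedModule x.asIdeal.primeCompl ((G i ⊗[R] B₀) ⊗[B₀] M₀))}ᶜ
  let 𝔞 : ∀ i, Ideal ((G i ⊗[R] B₀)) := fun i => PrimeSpectrum.vanishingIdeal (Z i)
  have hZ : ∀ i (x : PrimeSpectrum ((G i ⊗[R] B₀))), 𝔞 i ≤ x.asIdeal →
      ¬ Module.Flat (G i) (LocalizedModule x.asIdeal.primeCompl ((G i ⊗[R] B₀) ⊗[B₀] M₀)) := fun i x hx => by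
    have hc : IsClosed (Z i) := by
      haveI : Algebra.FinitePresentation (G i) ((G i ⊗[R] B₀)) := inferInstance
      haveI : Module.FinitePresentation ((G i ⊗[R] B₀)) ((G i ⊗[R] B₀) ⊗[B₀] M₀) := inferInstance
      exact (FibreFlat.isOpen_flat_locus (R := G i) (A := (G i ⊗[R] B₀)) (M := (G i ⊗[R] B₀) ⊗[B₀] M₀)).isClosed_compl
    have : x ∈ Z i := by
      rw [← hc.closure_eq, ← PrimeSpectrum.zeroLocus_vanishingIdeal_eq_closure]
      exact hx
    exact this
  let c : ∀ j, Ideal ((G j ⊗[R] B₀)) := fun j =>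
    (K j).map (algebraMap (G j) ((G j ⊗[R] B₀))) ⊔ J₀.map (algebraMap B₀ ((G j ⊗[R] B₀))) ⊔ ⨆ (i) (h : i ≤ j), (𝔞 i).map (t i j h)
  have hc : ∀ i j (h : i ≤ j) y, y ∈ c i → t i j h y ∈ c j := fun i j h y hy => by
    have : (c i).map (t i j h) ≤ c j := by
      simp only [c, Ideal.map_sup, Ideal.map_iSup]
      refine sup_le (sup_le ?_ ?_) (iSup₂_le fun k hk => ?_)
      · refine le_sup_of_le_left (le_sup_of_le_left ?_)
        rw [Ideal.map_le_iff_le_comap, Ideal.map_le_iff_le_comap]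
        intro x hx
        show t i j h (algebraMap (G i) ((G i ⊗[R] B₀)) x) ∈ (K j).map (algebraMap (G j) ((G j ⊗[R] B₀)))
        have : t i j h (algebraMap (G i) ((G i ⊗[R] B₀)) x) = algebraMap (G j) ((G j ⊗[R] B₀)) (g i j h x) := by
          simp [t, Algebra.TensorProduct.algebraMap_apply]
        rw [this]
        exact Ideal.mem_map_of_mem _ (hK i j h (Ideal.mem_map_of_mem _ hx))
      · refine le_sup_of_le_left (le_sup_of_le_right ?_)
        rw [Ideal.map_le_iff_le_comap, Ideal.map_le_iff_le_comap]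
        intro x hx
        show t i j h (algebraMap B₀ ((G i ⊗[R] B₀)) x) ∈ J₀.map (algebraMap B₀ ((G j ⊗[R] B₀)))
        have : t i j h (algebraMap B₀ ((G i ⊗[R] B₀)) x) = algebraMap B₀ ((G j ⊗[R] B₀)) x := by
          show t i j h (1 ⊗ₜ x) = 1 ⊗ₜ x
          simp [t]
        rw [this]
        exact Ideal.mem_map_of_mem _ hx
      · refine le_sup_of_le_right (le_iSup₂_of_le k (hk.trans h) ?_)
        rw [Ideal.map_le_iff_le_comap, Ideal.map_le_iff_le_comap]
        intro x hx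
        show t i j h (t k i hk x) ∈ (𝔞 k).map (t k j (hk.trans h))
        rw [htt]
        exact Ideal.mem_map_of_mem _ hx
    exact this (Ideal.mem_map_of_mem _ hy)
  let C : Ideal (R' ⊗[R] B₀) :=
    { carrier := {z | ∃ j, ∃ y ∈ c j, β j y = z}
      zero_mem' := ⟨hne.some, 0, zero_mem _, map_zero _⟩
      add_mem' := by
        rintro _ _ ⟨j, y, hy, rfl⟩ ⟨j', y', hy', rfl⟩
        obtain ⟨k, hk, hk'⟩ := directed_of (· ≤ ·) j j'
        exact ⟨k, t j k hk y + t j' k hk' y', add_mem (hc _ _ hk _ hy) (hc _ _ hk' _ hy'), by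
          rw [map_add, htβ, htβ]⟩
      smul_mem' := by
        rintro b _ ⟨j, y, hy, rfl⟩
        obtain ⟨j', b', rfl⟩ := hβs b
        obtain ⟨k, hk, hk'⟩ := directed_of (· ≤ ·) j j'
        exact ⟨k, t j' k hk' b' * t j k hk y, Ideal.mul_mem_left _ _ (hc _ _ hk _ hy), by
          rw [map_mul, htβ, htβ]; rfl⟩ }
  -- `C` meets `W`
  obtain ⟨w, hwW, hw⟩ : ∃ w ∈ W, algebraMap B₀ (R' ⊗[R] B₀) w ∈ C := by
    by_contra hcon
    have hd : Disjoint (C : Set (R' ⊗[R] B₀)) ↑(W.map (algebraMap B₀ (R' ⊗[R] B₀))) := by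
      rw [Set.disjoint_right]
      rintro _ ⟨w, hw, rfl⟩ hwC
      exact hcon ⟨w, hw, hwC⟩
    obtain ⟨P, hP, hCP, hPW⟩ := Ideal.exists_le_prime_disjoint C _ hd
    haveI := hP
    have hflat := h P (fun i x hx => hCP ⟨i, x ⊗ₜ 1,
        Submodule.mem_sup_left (Submodule.mem_sup_left (Ideal.mem_map_of_mem (algebraMap (G i) ((G i ⊗[R] B₀))) hx)),
        by simp [β]⟩)
      (Ideal.map_le_iff_le_comap.2 fun x hx => hCP ⟨hne.some, algebraMap B₀ ((G hne.some ⊗[R] B₀)) x,
        Submodule.mem_sup_left (Submodule.mem_sup_right (Ideal.mem_map_of_mem _ hx)),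
        by show β _ (1 ⊗ₜ x) = 1 ⊗ₜ x; simp [β]⟩)
      (fun w hw hwP => Set.disjoint_right.1 hPW ⟨w, hw, rfl⟩ hwP)
    obtain ⟨i, hi⟩ := FlatLimit.exists_stage_flat_at' (A₀ := R) (A := R') (B₀ := B₀) M₀ G
      (fun T => by
        induction T using Finset.induction_on with
        | empty => exact ⟨hne.some, by simp⟩
        | insert a T _ ih =>
          obtain ⟨i, hi⟩ := ih
          obtain ⟨i', x, hx⟩ := hsurj a
          obtain ⟨j, h, h'⟩ := directed_of (· ≤ ·) i i'
          refine ⟨j, fun b hb => ?_⟩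
          rcases Finset.mem_insert.1 (Finset.mem_coe.1 hb) with rfl | hb
          · exact ⟨g i' j h' x, (hcomm i' j h' x).trans hx⟩
          · obtain ⟨y, hy⟩ := hi (Finset.mem_coe.2 hb)
            exact ⟨g i j h y, (hcomm i j h y).trans hy⟩)
      (fun i p hp => by
        induction p using Finset.induction_on with
        | empty => exact ⟨i, AlgHom.id R (G i), fun _ => rfl, by simp⟩
        | insert a p _ ih =>
          obtain ⟨j, ψ, hψ, hψp⟩ := ih fun x hx => hp x (Finset.mem_insert_of_mem hx)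
          obtain ⟨k, h, hk⟩ := hzero j (ψ a.1 - ψ a.2) (by
            rw [map_sub, hψ, hψ, hp a (Finset.mem_insert_self a p), sub_self])
          refine ⟨k, (g j k h).comp ψ, fun x => (hcomm j k h (ψ x)).trans (hψ x), fun x hx => ?_⟩
          rcases Finset.mem_insert.1 hx with rfl | hx
          · rw [map_sub] at hk
            exact sub_eq_zero.1 hk
          · rw [AlgHom.comp_apply, AlgHom.comp_apply, hψp x hx]) P hflat
    have hfl := hi ((G i ⊗[R] B₀)) (β i).toRingHom (fun s => by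
        simp [β, Algebra.TensorProduct.algebraMap_apply])
      (fun b => by show β i (1 ⊗ₜ b) = 1 ⊗ₜ b; simp [β])
    let Pi : PrimeSpectrum (G i ⊗[R] B₀) := ⟨P.comap (β i).toRingHom, inferInstance⟩
    have hle : 𝔞 i ≤ Pi.asIdeal := fun x hx => by
      show β i x ∈ P
      refine hCP ?_
      show ∃ j, ∃ y ∈ c j, β j y = β i x
      refine ⟨i, x, ?_, rfl⟩
      have ht : t i i le_rfl x = x := by
        clear hx
        induction x using TensorProduct.induction_on with
        | zero => simp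
        | add a b ha hb => simp only [map_add, ha, hb]
        | tmul a b => simp [t, hrefl]
      have h1 : t i i le_rfl x ∈ (𝔞 i).map (t i i le_rfl) := Ideal.mem_map_of_mem _ hx
      rw [ht] at h1
      exact Submodule.mem_sup_right (Submodule.mem_iSup_of_mem i (Submodule.mem_iSup_of_mem le_rfl h1))
    exact hZ i Pi hle hfl
  obtain ⟨j, y, hy, hyw⟩ := hw
  obtain ⟨l, hjl, hl⟩ := hβz j (y - 1 ⊗ₜ w) (by
    rw [map_sub, hyw, sub_eq_zero]
    show (1 : R') ⊗ₜ[R] w = β j (1 ⊗ₜ w)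
    simp [β])
  refine ⟨l, fun Q _ hKQ hJQ hWQ => ?_⟩
  have hwl : algebraMap B₀ ((G l ⊗[R] B₀)) w ∈ c l := by
    rw [map_sub, sub_eq_zero] at hl
    show (1 : G l) ⊗ₜ[R] w ∈ c l
    rw [show (1 : G l) ⊗ₜ[R] w = t j l hjl (1 ⊗ₜ w) by simp [t], ← hl]
    exact hc _ _ _ _ hy
  obtain ⟨i, hil, hiQ⟩ : ∃ i, ∃ h : i ≤ l, ¬ (𝔞 i).map (t i l h) ≤ Q := by
    by_contra hcon
    push_neg at hcon
    refine hWQ w hwW ((sup_le (sup_le ?_ hJQ) (iSup₂_le hcon) : c l ≤ Q) hwl)
    rw [Ideal.map_le_iff_le_comap]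
    exact fun x hx => hKQ x hx
  rw [Ideal.map_le_iff_le_comap] at hiQ
  let Qi : PrimeSpectrum ((G i ⊗[R] B₀)) := ⟨Q.comap (t i l hil).toRingHom, inferInstance⟩
  have hfl : Module.Flat (G i) (LocalizedModule Qi.asIdeal.primeCompl ((G i ⊗[R] B₀) ⊗[B₀] M₀)) := by
    by_contra hnf
    refine hiQ fun x hx => ?_
    exact (PrimeSpectrum.mem_vanishingIdeal _ _).1 hx Qi hnf
  letI : Algebra (G i) (G l) := (g i l hil).toRingHom.toAlgebra
  haveI : IsScalarTower R (G i) (G l) := IsScalarTower.of_algebraMap_eq fun r => ((g i l hil).commutes r).symm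
  exact FlatLimit.flat_at_of_stage (A₀ := R) (A := G l) (B₀ := B₀) M₀ (S := G i) (BS := (G i ⊗[R] B₀)) (B := (G l ⊗[R] B₀))
    (t i l hil).toRingHom (fun s => by
      simp [t, Algebra.TensorProduct.algebraMap_apply, RingHom.algebraMap_toAlgebra])
    (fun b => by show t i l hil (1 ⊗ₜ b) = 1 ⊗ₜ b; simp [t]) Q hfl

end GrothLib.Flattening
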