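import Groth.Agent.Lib.FlatLimit.Pointwise
import Groth.Agent.Lib.FibreFlat.OpenLocus
import Groth.Agent.Lib.RingStage.FaithfullyFlat
import Mathlib.RingTheory.Adjoin.FG

/-!
# Flatness along the closed fibre comes from a noetherian local subring
-/

set_option autoImplicit false
universe u

open TensorProduct

noncomputable section

namespace GrothLib.Flattening

section

variable {R R' : Type u} [CommRing R] [CommRing R'] [IsLocalRing R'] [Algebra R R']

/-- The contraction of the maximal ideal to the subalgebra generated by `s`. -/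
abbrev stageIdeal (s : Finset R') : Ideal (Algebra.adjoin R (s : Set R')) :=
  (IsLocalRing.maximalIdeal R').comap (Algebra.adjoin R (s : Set R')).val.toRingHom

/-- The local subring of `R'` generated by `s`. -/
abbrev Stage (s : Finset R') : Type u := Localization.AtPrime (stageIdeal (R := R) s)

/-- Its map to `R'`. -/
def stageMap (s : Finset R') : Stage (R := R) s →+* R' :=
  IsLocalization.lift (M := (stageIdeal (R := R) s).primeCompl)
    (g := (Algebra.adjoin R (s : Set R')).val.toRingHom) fun y => by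
      by_contra h
      exact y.2 ((IsLocalRing.mem_maximalIdeal _).mpr h)

theorem stageMap_algebraMap (s : Finset R') (x : Algebra.adjoin R (s : Set R')) :
    stageMap s (algebraMap _ (Stage (R := R) s) x) = (x : R') :=
  IsLocalization.lift_eq _ x

instance (s : Finset R') : IsLocalHom (stageMap (R := R) s) := by
  refine ⟨fun a ha => ?_⟩
  obtain ⟨x, y, rfl⟩ := IsLocalization.exists_mk'_eq (stageIdeal (R := R) s).primeCompl a
  rw [IsLocalization.AtPrime.isUnit_mk'_iff (Stage (R := R) s) (stageIdeal (R := R) s)]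
  intro hx
  refine (IsLocalRing.mem_maximalIdeal (x : R')).mp hx ?_
  have h : stageMap s (IsLocalization.mk' (Stage (R := R) s) x y) * (y : R') = (x : R') := by
    rw [← stageMap_algebraMap s x, ← stageMap_algebraMap s (y : Algebra.adjoin R (s : Set R')), ← map_mul,
      IsLocalization.mk'_spec]
  rw [← h]
  refine ha.mul ?_
  by_contra hy
  exact y.2 ((IsLocalRing.mem_maximalIdeal _).mpr hy)

theorem stageMap_injective (s : Finset R') : Function.Injective (stageMap (R := R) s) := by
  rw [injective_iff_map_eq_zero]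
  intro a ha
  obtain ⟨x, y, rfl⟩ := IsLocalization.exists_mk'_eq (stageIdeal (R := R) s).primeCompl a
  have h : (x : R') = 0 := by
    rw [← stageMap_algebraMap s x, ← IsLocalization.mk'_spec (Stage (R := R) s) x y, map_mul, ha, zero_mul]
  rw [show x = 0 from Subtype.ext h, IsLocalization.mk'_zero]

theorem comap_val_inclusion {A B : Subalgebra R R'} (h : A ≤ B) (m : Ideal R') :
    m.comap A.val.toRingHom = (m.comap B.val.toRingHom).comap (Subalgebra.inclusion h).toRingHom :=
  Ideal.ext fun _ => Iff.rfl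

/-- The transition map between stages. -/
def stageTrans {s t : Finset R'} (h : s ⊆ t) : Stage (R := R) s →+* Stage (R := R) t :=
  Localization.localRingHom _ _
    (Subalgebra.inclusion (Algebra.adjoin_mono (Finset.coe_subset.mpr h))).toRingHom (comap_val_inclusion (Algebra.adjoin_mono (Finset.coe_subset.mpr h)) (IsLocalRing.maximalIdeal R'))

theorem stageMap_trans {s t : Finset R'} (h : s ⊆ t) (a : Stage (R := R) s) :
    stageMap t (stageTrans h a) = stageMap s a := by
  have : (stageMap (R := R) t).comp (stageTrans h) = stageMap s := by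
    refine IsLocalization.ringHom_ext (stageIdeal (R := R) s).primeCompl (RingHom.ext fun x => ?_)
    rw [RingHom.comp_apply, RingHom.comp_apply, RingHom.comp_apply, stageTrans, Localization.localRingHom_to_map,
      stageMap_algebraMap, stageMap_algebraMap]
    exact Subalgebra.coe_inclusion _ x
  exact RingHom.congr_fun this a

theorem stageTrans_algebraMap {s t : Finset R'} (h : s ⊆ t) (r : R) :
    stageTrans h (algebraMap R (Stage (R := R) s) r) = algebraMap R (Stage (R := R) t) r := by
  rw [IsScalarTower.algebraMap_apply R (Algebra.adjoin R (s : Set R')) (Stage (R := R) s),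
    IsScalarTower.algebraMap_apply R (Algebra.adjoin R (t : Set R')) (Stage (R := R) t), stageTrans,
    Localization.localRingHom_to_map]
  rfl

/-- The local subrings of finite type, as an abstract family. -/
theorem exists_family [IsLocalRing R] [IsNoetherianRing R] [IsLocalHom (algebraMap R R')] :
    ∃ (G : Finset R' → Type u) (_ : ∀ s, CommRing (G s)) (_ : ∀ s, IsLocalRing (G s))
      (_ : ∀ s, IsNoetherianRing (G s)) (_ : ∀ s, Algebra R (G s)) (_ : ∀ s, Algebra (G s) R'),
      (∀ s, IsScalarTower R (G s) R') ∧ (∀ s, IsLocalHom (algebraMap R (G s))) ∧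
      (∀ s, IsLocalHom (algebraMap (G s) R')) ∧ (∀ s, Function.Injective (algebraMap (G s) R')) ∧
      (∀ s : Finset R', (s : Set R') ⊆ Set.range (algebraMap (G s) R')) ∧
      (∀ s t : Finset R', s ⊆ t → ∃ ψ : G s →ₐ[R] G t, ∀ x, algebraMap (G t) R' (ψ x) = algebraMap (G s) R' x) := by
  classical
  have hnoe : ∀ s : Finset R', IsNoetherianRing (Stage (R := R) s) := fun s => by
    haveI : Algebra.FiniteType R (Algebra.adjoin R (s : Set R')) :=
      (Subalgebra.fg_iff_finiteType _).mp (Subalgebra.fg_adjoin_finset s)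
    haveI : IsNoetherianRing (Algebra.adjoin R (s : Set R')) := Algebra.FiniteType.isNoetherianRing R _
    exact IsLocalization.isNoetherianRing (stageIdeal (R := R) s).primeCompl _ inferInstance
  have hR : ∀ (s : Finset R') (r : R), stageMap s (algebraMap R (Stage (R := R) s) r) = algebraMap R R' r :=
    fun s r => by
      rw [IsScalarTower.algebraMap_apply R (Algebra.adjoin R (s : Set R')) (Stage (R := R) s), stageMap_algebraMap]
      rfl
  letI aS : ∀ s : Finset R', Algebra (Stage (R := R) s) R' := fun s => (stageMap s).toAlgebra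
  haveI tS : ∀ s : Finset R', IsScalarTower R (Stage (R := R) s) R' := fun s =>
    IsScalarTower.of_algebraMap_eq fun r => (hR s r).symm
  refine ⟨fun s => Stage (R := R) s, fun s => inferInstance, fun s => inferInstance, hnoe, fun s => inferInstance,
    aS, tS,
    fun s => ⟨fun r hr => ?_⟩, fun s => inferInstanceAs (IsLocalHom (stageMap (R := R) s)),
    fun s => stageMap_injective s,
    fun s x hx => ⟨algebraMap _ _ (⟨x, Algebra.subset_adjoin hx⟩ : Algebra.adjoin R (s : Set R')),
      stageMap_algebraMap s _⟩,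
    fun s t hst => ⟨{ stageTrans hst with commutes' := stageTrans_algebraMap hst }, stageMap_trans hst⟩⟩
  have h1 := hr.map (stageMap s)
  rw [hR] at h1
  exact isUnit_of_map_unit _ r h1

end

variable {R R' S S' : Type u} [CommRing R] [IsNoetherianRing R] [IsLocalRing R] [CommRing R'] [IsLocalRing R']
  [Algebra R R'] [IsLocalHom (algebraMap R R')] [CommRing S] [CommRing S'] [Algebra R S]
  [Algebra.FiniteType R S] [Algebra S S'] [Algebra R' S'] [Algebra R S'] [IsScalarTower R S S']
  [IsScalarTower R R' S'] [Algebra.IsPushout R S R' S']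
  (M : Type u) [AddCommGroup M] [Module S M] [Module R M] [IsScalarTower R S M] [Module.Finite S M]

attribute [local instance] Algebra.TensorProduct.rightAlgebra

/-- **Flatness along the closed fibre comes from one of a family of local subrings.** -/
theorem exists_stage_flat_fibre (G : Finset R' → Type u) [∀ s, CommRing (G s)] [∀ s, IsLocalRing (G s)]
    [∀ s, Algebra R (G s)] [∀ s, Algebra (G s) R'] [∀ s, IsScalarTower R (G s) R']
    [∀ s, IsLocalHom (algebraMap (G s) R')] (hinj : ∀ s, Function.Injective (algebraMap (G s) R'))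
    (hmem : ∀ s : Finset R', (s : Set R') ⊆ Set.range (algebraMap (G s) R'))
    (htrans : ∀ s t : Finset R', s ⊆ t → ∃ ψ : G s →ₐ[R] G t, ∀ x, algebraMap (G t) R' (ψ x) = algebraMap (G s) R' x)
    (h : ∀ (q' : Ideal S') [q'.IsPrime], q'.comap (algebraMap R' S') = IsLocalRing.maximalIdeal R' →
      Module.Flat R' (LocalizedModule q'.primeCompl (S' ⊗[S] M))) :
    ∃ s : Finset R', ∀ (Q : Ideal (G s ⊗[R] S)) [Q.IsPrime],
        Q.comap Algebra.TensorProduct.includeLeftRingHom = IsLocalRing.maximalIdeal _ →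
          Module.Flat (G s) (LocalizedModule Q.primeCompl ((G s ⊗[R] S) ⊗[S] M)) := by
  classical
  haveI : Algebra.FinitePresentation R S := Algebra.FinitePresentation.of_finiteType.mp inferInstance
  haveI : IsNoetherianRing S := Algebra.FiniteType.isNoetherianRing R S
  haveI : Module.FinitePresentation S M := Module.finitePresentation_of_finite S M
  haveI : Algebra.IsPushout R R' S S' := Algebra.IsPushout.symm inferInstance
  haveI : ∀ s : Finset R', Algebra.IsPushout R (G s) S ((G s ⊗[R] S)) := fun s => inferInstance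
  let β : ∀ s : Finset R', (G s ⊗[R] S) →ₐ[R] S' := fun s =>
    Algebra.TensorProduct.lift ((IsScalarTower.toAlgHom R R' S').comp (IsScalarTower.toAlgHom R (G s) R'))
      (IsScalarTower.toAlgHom R S S') fun _ _ => Commute.all _ _
  have hβS : ∀ s x, β s (algebraMap (G s) ((G s ⊗[R] S)) x) = algebraMap R' S' (algebraMap _ R' x) := fun s x => by
    show β s (x ⊗ₜ 1) = _
    simp [β]
  have hβB : ∀ s b, β s (algebraMap S ((G s ⊗[R] S)) b) = algebraMap S S' b := fun s b => by
    show β s (1 ⊗ₜ b) = _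
    simp [β]
  have hlift : ∀ T : Finset R', ∃ s : Finset R', (T : Set R') ⊆ Set.range (algebraMap (G s) R') :=
    fun T => ⟨T, hmem T⟩
  have key : ∀ (q' : PrimeSpectrum S'), q'.asIdeal.comap (algebraMap R' S') = IsLocalRing.maximalIdeal R' →
      ∃ s : Finset R', Module.Flat (G s)
        (LocalizedModule (q'.asIdeal.comap (β s).toRingHom).primeCompl ((G s ⊗[R] S) ⊗[S] M)) := by
    intro q' hq'
    obtain ⟨s, hs⟩ := GrothLib.FlatLimit.exists_stage_flat_at' (A₀ := R) (A := R') (B₀ := S) (B := S') M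
      G hlift
      (fun s p hp => ⟨s, AlgHom.id R _, fun _ => rfl, fun x hx => hinj s (hp x hx)⟩)
      q'.asIdeal (h q'.asIdeal hq')
    exact ⟨s, hs ((G s ⊗[R] S)) (β s).toRingHom (hβS s) (hβB s)⟩
  choose! st hst using key
  let K : Set (PrimeSpectrum S') := PrimeSpectrum.zeroLocus
    ((IsLocalRing.maximalIdeal R').map (algebraMap R' S') : Set S')
  have hK : ∀ q' ∈ K, q'.asIdeal.comap (algebraMap R' S') = IsLocalRing.maximalIdeal R' := fun q' hq' =>
    ((IsLocalRing.maximalIdeal.isMaximal R').eq_of_le (Ideal.IsPrime.ne_top inferInstance)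
      (Ideal.map_le_iff_le_comap.mp hq')).symm
  let V : Finset R' → Set (PrimeSpectrum S') := fun s => PrimeSpectrum.comap (β s).toRingHom ⁻¹'
    {Q : PrimeSpectrum ((G s ⊗[R] S)) | Module.Flat (G s) (LocalizedModule Q.asIdeal.primeCompl ((G s ⊗[R] S) ⊗[S] M))}
  have hV : ∀ s, IsOpen (V s) := fun s =>
    (GrothLib.FibreFlat.isOpen_flat_locus (R := G s) (A := (G s ⊗[R] S)) (M := (G s ⊗[R] S) ⊗[S] M)).preimage
      (PrimeSpectrum.continuous_comap _)
  have hKc : IsCompact K := (PrimeSpectrum.isClosed_zeroLocus _).isCompact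
  obtain ⟨t, ht⟩ := hKc.elim_finite_subcover (fun q' : K => V (st q')) (fun q' => hV _)
    (fun q' hq' => Set.mem_iUnion.mpr ⟨⟨q', hq'⟩, hst q' (hK q' hq')⟩)
  let T : Finset R' := t.biUnion fun q' => st q'
  refine ⟨T, fun Q _ hQ => ?_⟩
  -- a point of the closed fibre over `Q`
  have hrange : PrimeSpectrum.comap (algebraMap (G T) ((G T ⊗[R] S))) ⟨Q, inferInstance⟩ ∈
      Set.range (PrimeSpectrum.comap (algebraMap (G T) (IsLocalRing.ResidueField R'))) := by
    refine ⟨⟨⊥, Ideal.isPrime_bot⟩, PrimeSpectrum.ext ?_⟩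
    refine Eq.trans ?_ hQ.symm
    ext x
    show IsLocalRing.residue R' (algebraMap (G T) R' x) = 0 ↔ x ∈ IsLocalRing.maximalIdeal _
    rw [IsLocalRing.residue_eq_zero_iff, IsLocalRing.mem_maximalIdeal, IsLocalRing.mem_maximalIdeal,
      mem_nonunits_iff, mem_nonunits_iff, isUnit_map_iff]
  obtain ⟨P, hP⟩ := GrothLib.RingStage.mem_range_comap_baseChange (G T) ((G T ⊗[R] S)) (IsLocalRing.ResidueField R') ⟨Q, inferInstance⟩ hrange
  let r : (IsLocalRing.ResidueField R') →+* ((G T ⊗[R] S) ⊗[G T] (IsLocalRing.ResidueField R')) := (Algebra.TensorProduct.includeRight : (IsLocalRing.ResidueField R') →ₐ[G T] ((G T ⊗[R] S) ⊗[G T] (IsLocalRing.ResidueField R'))).toRingHom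
  let u : R' →+* ((G T ⊗[R] S) ⊗[G T] (IsLocalRing.ResidueField R')) := r.comp (IsLocalRing.residue R')
  have hu : ∀ x, u (algebraMap (G T) R' x) = algebraMap ((G T ⊗[R] S)) ((G T ⊗[R] S) ⊗[G T] (IsLocalRing.ResidueField R')) (algebraMap _ ((G T ⊗[R] S)) x) := fun x => by
    show r (algebraMap (G T) (IsLocalRing.ResidueField R') x) = _
    exact (AlgHom.commutes (Algebra.TensorProduct.includeRight : (IsLocalRing.ResidueField R') →ₐ[G T] ((G T ⊗[R] S) ⊗[G T] (IsLocalRing.ResidueField R'))) x).trans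
      (IsScalarTower.algebraMap_apply (G T) ((G T ⊗[R] S)) ((G T ⊗[R] S) ⊗[G T] (IsLocalRing.ResidueField R')) x)
  have huR : ∀ x, u (algebraMap R R' x) = algebraMap R ((G T ⊗[R] S) ⊗[G T] (IsLocalRing.ResidueField R')) x := fun x => by
    rw [IsScalarTower.algebraMap_apply R (G T) R', hu]
    rw [← IsScalarTower.algebraMap_apply R (G T) ((G T ⊗[R] S)), ← IsScalarTower.algebraMap_apply R ((G T ⊗[R] S)) ((G T ⊗[R] S) ⊗[G T] (IsLocalRing.ResidueField R'))]
  let uA : R' →ₐ[R] ((G T ⊗[R] S) ⊗[G T] (IsLocalRing.ResidueField R')) := { u with commutes' := huR }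
  let wA : S →ₐ[R] ((G T ⊗[R] S) ⊗[G T] (IsLocalRing.ResidueField R')) :=
    { (algebraMap ((G T ⊗[R] S)) ((G T ⊗[R] S) ⊗[G T] (IsLocalRing.ResidueField R'))).comp (algebraMap S ((G T ⊗[R] S))) with
      commutes' := fun x => by
        show algebraMap ((G T ⊗[R] S)) ((G T ⊗[R] S) ⊗[G T] (IsLocalRing.ResidueField R')) (algebraMap S ((G T ⊗[R] S)) (algebraMap R S x)) = _
        rw [← IsScalarTower.algebraMap_apply R S ((G T ⊗[R] S)), ← IsScalarTower.algebraMap_apply R ((G T ⊗[R] S)) ((G T ⊗[R] S) ⊗[G T] (IsLocalRing.ResidueField R'))] }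
  let ψ : S' →ₐ[R] ((G T ⊗[R] S) ⊗[G T] (IsLocalRing.ResidueField R')) := (Algebra.TensorProduct.lift uA wA fun _ _ => Commute.all _ _).comp
    ((Algebra.IsPushout.equiv R R' S S').symm.toAlgHom.restrictScalars R)
  have hψl : ∀ x, ψ (algebraMap R' S' x) = u x := fun x => by
    show Algebra.TensorProduct.lift uA wA (fun _ _ => Commute.all _ _) ((Algebra.IsPushout.equiv R R' S S').symm (algebraMap R' S' x)) = _
    rw [AlgEquiv.commutes]
    show Algebra.TensorProduct.lift uA wA (fun _ _ => Commute.all _ _) (x ⊗ₜ (1 : S)) = _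
    simp [uA]
  have hψr : ∀ x, ψ (algebraMap S S' x) = algebraMap ((G T ⊗[R] S)) ((G T ⊗[R] S) ⊗[G T] (IsLocalRing.ResidueField R')) (algebraMap S ((G T ⊗[R] S)) x) := fun x => by
    show Algebra.TensorProduct.lift uA wA (fun _ _ => Commute.all _ _) ((Algebra.IsPushout.equiv R R' S S').symm (algebraMap S S' x)) = _
    rw [Algebra.IsPushout.equiv_symm_algebraMap_right]
    simp [wA]
  have hψβ : ψ.toRingHom.comp (β T).toRingHom = algebraMap ((G T ⊗[R] S)) ((G T ⊗[R] S) ⊗[G T] (IsLocalRing.ResidueField R')) := by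
    refine Algebra.TensorProduct.ringHom_ext (RingHom.ext fun x => ?_) (RingHom.ext fun x => ?_)
    · show ψ (β T (algebraMap _ ((G T ⊗[R] S)) x)) = algebraMap ((G T ⊗[R] S)) ((G T ⊗[R] S) ⊗[G T] (IsLocalRing.ResidueField R')) (algebraMap _ ((G T ⊗[R] S)) x)
      rw [hβS, hψl, hu]
    · show ψ (β T (algebraMap S ((G T ⊗[R] S)) x)) = algebraMap ((G T ⊗[R] S)) ((G T ⊗[R] S) ⊗[G T] (IsLocalRing.ResidueField R')) (algebraMap S ((G T ⊗[R] S)) x)
      rw [hβB, hψr]
  let q' : PrimeSpectrum S' := PrimeSpectrum.comap ψ.toRingHom P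
  have hq' : q' ∈ K := by
    refine Ideal.map_le_iff_le_comap.mpr fun x hx => ?_
    show ψ (algebraMap R' S' x) ∈ P.asIdeal
    rw [hψl, show u x = r (IsLocalRing.residue R' x) from rfl, (IsLocalRing.residue_eq_zero_iff x).mpr hx, map_zero]
    exact Submodule.zero_mem _
  have hqQ : q'.asIdeal.comap (β T).toRingHom = Q := by
    show (P.asIdeal.comap ψ.toRingHom).comap (β T).toRingHom = Q
    rw [Ideal.comap_comap, hψβ]
    exact congrArg PrimeSpectrum.asIdeal hP
  obtain ⟨k, hk, hkV⟩ := Set.mem_iUnion₂.mp (ht hq')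
  have hsub : st k ⊆ T := Finset.subset_biUnion_of_mem (fun q' : K => st q') hk
  -- pass from the stage `st k` to `T`
  obtain ⟨τ, hτ⟩ := htrans _ _ hsub
  letI : Algebra (G (st k)) (G T) := τ.toRingHom.toAlgebra
  haveI : IsScalarTower R (G (st k)) (G T) :=
    IsScalarTower.of_algebraMap_eq fun r => (τ.commutes r).symm
  let βk : (G (st k) ⊗[R] S) →ₐ[R] (G T ⊗[R] S) := Algebra.TensorProduct.map
    (IsScalarTower.toAlgHom R (G (st k)) (G T)) (AlgHom.id R S)
  have hcomp : (β T).comp βk = β (st k) := by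
    refine Algebra.TensorProduct.ext' fun a b => ?_
    simp only [β, βk, AlgHom.comp_apply, Algebra.TensorProduct.map_tmul, Algebra.TensorProduct.lift_tmul,
      IsScalarTower.coe_toAlgHom', AlgHom.id_apply]
    congr 2
    exact hτ a
  refine GrothLib.FlatLimit.flat_at_of_stage (A₀ := R) (A := G T) (B₀ := S) M
    (S := G (st k)) (BS := (G (st k) ⊗[R] S)) βk.toRingHom (fun x => ?_) (fun b => ?_) Q ?_
  · show βk (x ⊗ₜ 1) = algebraMap (G (st k)) (G T) x ⊗ₜ 1
    simp [βk]
  · show βk (1 ⊗ₜ b) = 1 ⊗ₜ b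
    simp [βk]
  · have e : Q.comap βk.toRingHom = q'.asIdeal.comap (β (st k)).toRingHom := by
      rw [← hqQ, Ideal.comap_comap, ← hcomp]
      rfl
    have h0 : ∀ (P₀ : Ideal ((G (st k) ⊗[R] S))) [P₀.IsPrime], P₀ = Q.comap βk.toRingHom →
        Module.Flat (G (st k)) (LocalizedModule P₀.primeCompl ((G (st k) ⊗[R] S) ⊗[S] M)) →
        Module.Flat (G (st k)) (LocalizedModule (Q.comap βk.toRingHom).primeCompl ((G (st k) ⊗[R] S) ⊗[S] M)) := by
      rintro P₀ _ rfl hP₀
      exact hP₀
    exact h0 _ e.symm hkV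

end GrothLib.Flattening
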